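import Groth.Agent.UOpenDesc.Crit
import Groth.Agent.ConsPropLib.Cores

/-!
# Descent of universally open quasi-finite morphisms along limits
-/

set_option autoImplicit false
set_option linter.style.haveILetI false
set_option backward.isDefEq.respectTransparency.types false

open AlgebraicGeometry CategoryTheory Limits Topology TopologicalSpace TensorProduct Groth.Agent.MorLib Groth.Agent.MorLib.Desc

namespace Groth.Agent.UOpenDesc

universe u

theorem pro_of_cons {X : Scheme.{u}} {E : Set X} (hE : IsConstructible E) : ProCons.IsProConstructible E :=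
  fun _ => ⟨Set.univ, isOpen_univ, trivial, {Subtype.val ⁻¹' E}, fun T hT => by
    rw [Set.mem_singleton_iff.mp hT]
    exact hE.isLocallyConstructible.preimage_of_isOpenEmbedding
      isOpen_univ.isOpenEmbedding_subtypeVal, (Set.sInter_singleton _).symm⟩

theorem ind_of_cons {X : Scheme.{u}} {E : Set X} (hE : IsConstructible E) : ProCons.IsIndConstructible E :=
  fun _ => ⟨Set.univ, isOpen_univ, trivial, {Subtype.val ⁻¹' E}, fun T hT => by
    rw [Set.mem_singleton_iff.mp hT]
    exact hE.isLocallyConstructible.preimage_of_isOpenEmbedding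
      isOpen_univ.isOpenEmbedding_subtypeVal, (Set.sUnion_singleton _).symm⟩

/-- A pullback square stays one after composing both legs with an isomorphism. -/
theorem isPullback_postcomp {P X Y S S' : Scheme.{u}} {p : P ⟶ X} {q : P ⟶ Y} {a : X ⟶ S} {x : Y ⟶ S}
    (h : IsPullback p q a x) (e : S ⟶ S') [IsIso e] : IsPullback p q (a ≫ e) (x ≫ e) := by
  have : IsPullback (𝟙 X) a (a ≫ e) e := IsPullback.of_horiz_isIso ⟨by simp⟩
  simpa using h.paste_horiz this

section

variable {A C : Type u} [CommRing A] [CommRing C] [Algebra A C] {U : Scheme.{u}}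
  (ι : U ⟶ Spec (CommRingCat.of C)) [IsOpenImmersion ι] {r : C}
  (hι : Set.range ι = (PrimeSpectrum.basicOpen r : Set (PrimeSpectrum C)))
include hι

theorem isConstructible_testSet [QuasiCompact (ι ≫ str A C)] [LocallyOfFinitePresentation (ι ≫ str A C)]
    {d : ℕ} (b : Fin d → C) :
    IsConstructible (X := ↥(Spec (CommRingCat.of (MvPolynomial (Fin d) A)))) (testSet b r) := by
  let P := MvPolynomial (Fin d) A
  obtain ⟨q, hq, hqs, hqr⟩ := exists_imm ι hι (IsPullback.of_hasPullback (ι ≫ str A C) (str A P))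
  let O : (Spec (CommRingCat.of (MvPolynomial (Fin d) A ⊗[A] C))).Opens :=
    PrimeSpectrum.basicOpen (testElem (A := A) b r)
  haveI : QuasiCompact (pullback.snd (ι ≫ str A C) (str A P)) :=
    MorphismProperty.pullback_snd _ _ inferInstance
  haveI : LocallyOfFinitePresentation (pullback.snd (ι ≫ str A C) (str A P)) :=
    MorphismProperty.pullback_snd _ _ inferInstance
  haveI : CompactSpace ↥(pullback (ι ≫ str A C) (str A P)) :=
    QuasiCompact.compactSpace_of_compactSpace (pullback.snd (ι ≫ str A C) (str A P))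
  haveI : QuasiCompact q := quasiCompact_of_compactSpace q
  have h1 : IsConstructible (O : Set (Spec (CommRingCat.of (MvPolynomial (Fin d) A ⊗[A] C)))) :=
    PrimeSpectrum.isConstructible_basicOpen
  have h2 := (pullback.snd (ι ≫ str A C) (str A P)).isConstructible_image (q.isConstructible_preimage h1)
  convert h2 using 1
  rw [← hqs, Scheme.Hom.comp_base, TopCat.coe_comp, Set.image_comp]
  refine congrArg (Set.image _) (Set.image_preimage_eq_of_subset ?_).symm
  refine subset_trans ?_ hqr.ge
  rw [testElem, PrimeSpectrum.basicOpen_mul]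
  exact Set.inter_subset_left

theorem descend_piece [QuasiCompact (ι ≫ str A C)] [LocallyOfFinitePresentation (ι ≫ str A C)]
    {d : ℕ} (b : Fin d → C) (hb : Submodule.span A (Set.range b) = ⊤)
    {I : Type u} [SmallCategory I] [IsCofiltered I] {D : I ⥤ Scheme.{u}} {c : Cone D} (hc : IsLimit c)
    [∀ {i j : I} (f : i ⟶ j), IsAffineHom (D.map f)] {i : I} (e : D.obj i ⟶ Spec (CommRingCat.of A)) [IsIso e]
    (h : UniversallyOpen (pullback.snd (ι ≫ str A C) (c.π.app i ≫ e))) :
    ∃ (j : I) (φ : j ⟶ i), UniversallyOpen (pullback.snd (ι ≫ str A C) (D.map φ ≫ e)) := by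
  let P := MvPolynomial (Fin d) A
  let g₀ : Spec (CommRingCat.of P) ⟶ D.obj i := str A P ≫ inv e
  have hg : g₀ ≫ e = str A P := by simp [g₀]
  have hX := IsPullback.of_hasPullback g₀ (c.π.app i)
  have sqlim := isPullback_postcomp hX e
  rw [hg] at sqlim
  have hopen := (universallyOpen_snd_iff ι hι b hb (c.π.app i ≫ e) sqlim).mp h
  let T : Over i := Over.mk (𝟙 i)
  haveI : CompactSpace ↥((BC.diag D g₀).obj T) := BC.compactSpace_obj D g₀ T
  haveI : ∀ {j k : Over i} (f : j ⟶ k), IsAffineHom ((BC.diag D g₀).map f) := fun f => BC.isAffineHom_map D g₀ f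
  haveI : QuasiCompact (pullback.fst g₀ (D.map T.hom)) := inferInstance
  have hZ := (pullback.fst g₀ (D.map T.hom)).isConstructible_preimage (isConstructible_testSet ι hι b)
  have hop : IsOpen ((BC.cone D g₀ hX).π.app T ⁻¹' (pullback.fst g₀ (D.map T.hom) ⁻¹' testSet b r)) := by
    have e1 : (BC.cone D g₀ hX).π.app T ≫ pullback.fst g₀ (D.map T.hom) = pullback.fst g₀ (c.π.app i) :=
      BC.proj_fst D g₀ hX T
    rw [← e1] at hopen
    exact hopen
  obtain ⟨j, φ, hj⟩ := LimCons.exists_isOpen (BC.isLimitCone D g₀ hX hc) T (pro_of_cons hZ) (ind_of_cons hZ) hop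
  refine ⟨j.left, j.hom, ?_⟩
  have sqj := isPullback_postcomp (IsPullback.of_hasPullback g₀ (D.map j.hom)) e
  rw [hg] at sqj
  refine (universallyOpen_snd_iff ι hι b hb (D.map j.hom ≫ e) sqj).mpr ?_
  have h3 : IsOpen (((BC.diag D g₀).map φ ≫ pullback.fst g₀ (D.map T.hom)) ⁻¹' testSet b r) := hj
  rw [BC.map_fst] at h3
  exact h3

end

/-- Descent of universal openness for locally quasi-finite morphisms over an affine stage. -/
theorem descend_affine {I : Type u} [SmallCategory I] [IsCofiltered I] {D : I ⥤ Scheme.{u}} {c : Cone D}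
    (hc : IsLimit c) [∀ {i j : I} (f : i ⟶ j), IsAffineHom (D.map f)] {i : I} [IsAffine (D.obj i)]
    {X₀ : Scheme.{u}} (f₀ : X₀ ⟶ D.obj i) [CompactSpace X₀]
    [LocallyOfFinitePresentation f₀] [LocallyQuasiFinite f₀]
    (h : UniversallyOpen (pullback.snd f₀ (c.π.app i))) :
    ∃ (j : I) (φ : j ⟶ i), UniversallyOpen (pullback.snd f₀ (D.map φ)) := by
  classical
  have loc : ∀ x : X₀, ∃ W : X₀.Opens, x ∈ W ∧
      ∃ (j : I) (φ : j ⟶ i), UniversallyOpen (pullback.snd (W.ι ≫ f₀) (D.map φ)) := by
    intro x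
    obtain ⟨V, hV, hxV, -⟩ := exists_isAffineOpen_mem_and_subset (x := x) (U := ⊤) trivial
    let ψ := f₀.appLE ⊤ V le_top
    algebraize [ψ.hom]
    haveI hfp : Algebra.FinitePresentation Γ(D.obj i, ⊤) Γ(X₀, V) :=
      HasRingHomProperty.appLE (P := @LocallyOfFinitePresentation) f₀ inferInstance ⟨⊤, isAffineOpen_top _⟩ ⟨V, hV⟩ le_top
    haveI : Algebra.QuasiFinite Γ(D.obj i, ⊤) Γ(X₀, V) :=
      HasRingHomProperty.appLE (P := @LocallyQuasiFinite) f₀ inferInstance ⟨⊤, isAffineOpen_top _⟩ ⟨V, hV⟩ le_top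
    let p := (hV.primeIdealOf ⟨x, hxV⟩).asIdeal
    haveI : p.IsPrime := (hV.primeIdealOf ⟨x, hxV⟩).isPrime
    obtain ⟨S', hS', r, hr, hbij⟩ :=
      Algebra.QuasiFiniteAt.exists_fg_and_exists_notMem_and_awayMap_bijective (R := Γ(D.obj i, ⊤)) p
    obtain ⟨d, b, hb⟩ := Submodule.fg_iff_exists_fin_generating_family.mp hS'
    let b' : Fin d → S' := fun k => ⟨b k, show b k ∈ S'.toSubmodule from hb ▸ Submodule.subset_span ⟨k, rfl⟩⟩
    have hb' : Submodule.span Γ(D.obj i, ⊤) (Set.range b') = ⊤ := by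
      refine top_le_iff.mp ?_
      rintro ⟨s, hs⟩ -
      have hs' : s ∈ Submodule.span Γ(D.obj i, ⊤) (Set.range b) := hb ▸ hs
      obtain ⟨l, hl⟩ := (Submodule.mem_span_range_iff_exists_fun _).mp hs'
      exact (Submodule.mem_span_range_iff_exists_fun _).mpr ⟨l, Subtype.ext (by simpa [b'] using hl)⟩
    let κ : CommRingCat.of (Localization.Away r) ⟶ CommRingCat.of (Localization.Away (S'.val.toRingHom r)) :=
      CommRingCat.ofHom (Localization.awayMap S'.val.toRingHom r)
    haveI : IsIso κ := (ConcreteCategory.isIso_iff_bijective κ).mpr hbij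
    let U := Spec (CommRingCat.of (Localization.Away (S'.val.toRingHom r)))
    let ι₀ : Spec (CommRingCat.of (Localization.Away r)) ⟶ Spec (CommRingCat.of S') :=
      Spec.map (CommRingCat.ofHom (algebraMap S' (Localization.Away r)))
    haveI : IsOpenImmersion ι₀ := IsOpenImmersion.of_isLocalization r
    let ι : U ⟶ Spec (CommRingCat.of S') := Spec.map κ ≫ ι₀
    have hι : Set.range ι = (PrimeSpectrum.basicOpen r : Set (PrimeSpectrum S')) := by
      have : Set.range (Spec.map κ).base = Set.univ := (Spec.map κ).homeomorph.surjective.range_eq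
      show Set.range (ι₀.base ∘ (Spec.map κ).base) = _
      rw [Set.range_comp, this, Set.image_univ]
      exact PrimeSpectrum.localization_away_comap_range (Localization.Away r) r
    let lB := algebraMap Γ(X₀, V) (Localization.Away (S'.val.toRingHom r))
    let u : U ⟶ X₀ := Spec.map (CommRingCat.ofHom lB) ≫ hV.fromSpec
    haveI : IsOpenImmersion (Spec.map (CommRingCat.ofHom lB)) :=
      IsOpenImmersion.of_isLocalization (S'.val.toRingHom r)
    haveI : IsOpenImmersion u := inferInstanceAs (IsOpenImmersion (_ ≫ _))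
    have hu : u ≫ f₀ ≫ (D.obj i).isoSpec.hom = ι ≫ str Γ(D.obj i, ⊤) S' := by
      have h0 := (isAffineOpen_top (D.obj i)).SpecMap_appLE_fromSpec f₀ hV le_top
      rw [IsAffineOpen.fromSpec_top] at h0
      simp only [u, Category.assoc]
      rw [← reassoc_of% h0, Iso.inv_hom_id, Category.comp_id]
      simp only [ι, ι₀, str, Category.assoc, ← Spec.map_comp]
      congr 1
      ext a
      show lB (algebraMap Γ(D.obj i, ⊤) Γ(X₀, V) a) =
        Localization.awayMap S'.val.toRingHom r (algebraMap S' (Localization.Away r) (algebraMap _ S' a))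
      rw [Localization.awayMap, IsLocalization.Away.map, IsLocalization.map_eq]
      rfl
    have hxu : x ∈ u.opensRange := by
      have h1 : hV.primeIdealOf ⟨x, hxV⟩ ∈ Set.range (Spec.map (CommRingCat.ofHom lB)) := by
        have := PrimeSpectrum.localization_away_comap_range (Localization.Away (S'.val.toRingHom r)) (S'.val.toRingHom r)
        exact this ▸ hr
      obtain ⟨y, hy⟩ := h1
      exact ⟨y, by rw [show u y = hV.fromSpec (Spec.map (CommRingCat.ofHom lB) y) from rfl, hy]
                   exact hV.fromSpec_primeIdealOf ⟨x, hxV⟩⟩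
    refine ⟨u.opensRange, hxu, ?_⟩
    let e := (D.obj i).isoSpec.hom
    haveI : QuasiCompact (ι ≫ str Γ(D.obj i, ⊤) S') := quasiCompact_of_compactSpace _
    haveI : LocallyOfFinitePresentation (ι ≫ str Γ(D.obj i, ⊤) S') := by
      rw [← hu, ← Category.assoc]; infer_instance
    have hlim : UniversallyOpen (pullback.snd (ι ≫ str Γ(D.obj i, ⊤) S') (c.π.app i ≫ e)) := by
      have sq : IsPullback (pullback.fst _ _) (pullback.snd (u ≫ f₀) (c.π.app i)) (ι ≫ str Γ(D.obj i, ⊤) S')
          (c.π.app i ≫ e) := by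
        rw [← hu, ← Category.assoc]
        exact isPullback_postcomp (IsPullback.of_hasPullback _ _) e
      refine of_two @UniversallyOpen sq (IsPullback.of_hasPullback _ _) ?_
      let m := pullback.map (u ≫ f₀) (c.π.app i) f₀ (c.π.app i) u (𝟙 _) (𝟙 _) (by simp) (by simp)
      have hm : IsPullback (pullback.fst (u ≫ f₀) (c.π.app i)) m u (pullback.fst f₀ (c.π.app i)) := by
        refine IsPullback.of_bot ?_ (pullback.lift_fst _ _ _).symm (IsPullback.of_hasPullback f₀ (c.π.app i))
        rw [show m ≫ pullback.snd f₀ (c.π.app i) = pullback.snd (u ≫ f₀) (c.π.app i) from (pullback.lift_snd _ _ _).trans (Category.comp_id _)]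
        exact IsPullback.of_hasPullback _ _
      haveI : IsOpenImmersion m := MorphismProperty.of_isPullback hm inferInstance
      haveI := h
      rw [show pullback.snd (u ≫ f₀) (c.π.app i) = m ≫ pullback.snd f₀ (c.π.app i) from ((pullback.lift_snd _ _ _).trans (Category.comp_id _)).symm]
      infer_instance
    obtain ⟨j, φ, hj⟩ := descend_piece ι hι b' hb' hc e hlim
    refine ⟨j, φ, ?_⟩
    have sq : IsPullback (pullback.fst (u.opensRange.ι ≫ f₀) (D.map φ) ≫ u.isoOpensRange.inv)
        (pullback.snd (u.opensRange.ι ≫ f₀) (D.map φ)) (ι ≫ str Γ(D.obj i, ⊤) S') (D.map φ ≫ e) := by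
      rw [← hu, ← Category.assoc]
      refine isPullback_postcomp ?_ e
      have : IsPullback u.isoOpensRange.inv (u.opensRange.ι ≫ f₀) (u ≫ f₀) (𝟙 _) :=
        IsPullback.of_horiz_isIso ⟨by rw [Category.comp_id, ← Category.assoc, Scheme.Hom.isoOpensRange_inv_comp]⟩
      simpa using (IsPullback.of_hasPullback (u.opensRange.ι ≫ f₀) (D.map φ)).paste_horiz this
    exact of_two @UniversallyOpen (IsPullback.of_hasPullback _ _) sq hj
  choose W hxW j φ hj using loc
  obtain ⟨F, hF⟩ := isCompact_univ.elim_finite_subcover (fun x => (W x : Set X₀)) (fun x => (W x).2)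
    fun x _ => Set.mem_iUnion.mpr ⟨x, hxW x⟩
  obtain ⟨k, ψ, χ, hχ⟩ := IsCofiltered.wideCospan fun x : F => φ x.1
  refine ⟨k, ψ, ?_⟩
  refine IsZariskiLocalAtSource.of_iSup_eq_top (P := @UniversallyOpen)
    (fun x : F => pullback.fst f₀ (D.map ψ) ⁻¹ᵁ W x.1) ?_ fun x => ?_
  · refine top_le_iff.mp fun y _ => ?_
    obtain ⟨q, hq, hy⟩ := Set.mem_iUnion₂.mp (hF (Set.mem_univ (pullback.fst f₀ (D.map ψ) y)))
    exact Opens.mem_iSup.mpr ⟨⟨q, hq⟩, hy⟩
  · refine of_factor @UniversallyOpen (hj x.1) (a := D.map (χ x)) (g' := D.map ψ) ?_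
      ((isPullback_morphismRestrict (pullback.fst f₀ (D.map ψ)) (W x.1)).paste_vert
        (IsPullback.of_hasPullback f₀ (D.map ψ)))
    rw [← D.map_comp, hχ x]

instance stable : MorphismProperty.IsStableUnderBaseChange ((@UniversallyOpen : MorphismProperty Scheme.{u}) ⊓ @LocallyQuasiFinite) where
  of_isPullback sq h := ⟨MorphismProperty.of_isPullback sq h.1, MorphismProperty.of_isPullback sq h.2⟩

instance localAtTarget : IsZariskiLocalAtTarget ((@UniversallyOpen : MorphismProperty Scheme.{u}) ⊓ @LocallyQuasiFinite) :=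
  inferInstance

theorem core : Core ((@UniversallyOpen : MorphismProperty Scheme.{u}) ⊓ @LocallyQuasiFinite)
    (@LocallyOfFinitePresentation : MorphismProperty Scheme.{u}) := by
  intro I _ _ D c hc hD i hi X₀ f₀ hcs hqs hQ h
  haveI : ∀ {i j : I} (f : i ⟶ j), IsAffineHom (D.map f) := fun {i j} f => hD i j f
  haveI := hcs
  haveI := hqs
  haveI := hQ
  haveI : CompactSpace (D.obj i) := inferInstance
  obtain ⟨j, φ, hj⟩ := ConsPropLib.core_locallyQuasiFinite I D c hc hD i hi f₀ hcs hqs
    (inferInstance : LocallyOfFiniteType f₀) h.2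
  haveI : IsAffine (D.obj j) := isAffine_of_isAffineHom (D.map φ)
  let f₁ := pullback.snd f₀ (D.map φ)
  haveI : LocallyQuasiFinite f₁ := hj
  haveI : LocallyOfFinitePresentation f₁ := MorphismProperty.pullback_snd _ _ inferInstance
  haveI : CompactSpace ↥(pullback f₀ (D.map φ)) :=
    QuasiCompact.compactSpace_of_compactSpace (pullback.fst f₀ (D.map φ))
  have h1 : UniversallyOpen (pullback.snd f₁ (c.π.app j)) := by
    have sq := (IsPullback.of_hasPullback f₁ (c.π.app j)).paste_horiz (IsPullback.of_hasPullback f₀ (D.map φ))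
    rw [c.w] at sq
    exact of_two @UniversallyOpen (IsPullback.of_hasPullback f₀ (c.π.app i)) sq h.1
  obtain ⟨k, ψ, hk⟩ := descend_affine hc f₁ h1
  refine ⟨k, ψ ≫ φ, ?_⟩
  have sq := (IsPullback.of_hasPullback f₁ (D.map ψ)).paste_horiz (IsPullback.of_hasPullback f₀ (D.map φ))
  rw [← D.map_comp] at sq
  refine of_two _ sq (IsPullback.of_hasPullback _ _) ⟨hk, ?_⟩
  haveI : LocallyQuasiFinite (pullback.snd f₁ (D.map ψ)) := MorphismProperty.pullback_snd _ _ inferInstance
  infer_instance

end Groth.Agent.UOpenDesc
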