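import Mathlib

/-!
# Universal openness of an open piece of a module-finite algebra is detected by one test element
-/

set_option autoImplicit false
set_option linter.style.haveILetI false

open AlgebraicGeometry CategoryTheory Limits TensorProduct PrimeSpectrum

namespace Groth.Agent.UOpenDesc

universe u

section ring

variable {A C : Type u} [CommRing A] [CommRing C] [Algebra A C]

variable (R : Type u) [CommRing R] [Algebra A R]

/-- The image in `Spec R` of `D(f) ⊆ Spec (R ⊗ C)`. -/
def imgD (f : R ⊗[A] C) : Set (PrimeSpectrum R) :=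
  comap (Algebra.TensorProduct.includeLeftRingHom : R →+* R ⊗[A] C) '' basicOpen f

variable {R} {R' : Type u} [CommRing R'] [Algebra A R']

theorem imgD_map (φ : R →ₐ[A] R') (f : R ⊗[A] C) :
    imgD R' (Algebra.TensorProduct.map φ (AlgHom.id A C) f) =
      comap φ.toRingHom ⁻¹' imgD R f := by
  let iA : CommRingCat.of A ⟶ CommRingCat.of R := CommRingCat.ofHom (algebraMap A R)
  let g : CommRingCat.of R ⟶ CommRingCat.of R' := CommRingCat.ofHom φ.toRingHom
  let inl : CommRingCat.of R ⟶ CommRingCat.of (R ⊗[A] C) :=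
    CommRingCat.ofHom Algebra.TensorProduct.includeLeftRingHom
  let inl' : CommRingCat.of R' ⟶ CommRingCat.of (R' ⊗[A] C) :=
    CommRingCat.ofHom Algebra.TensorProduct.includeLeftRingHom
  let m : CommRingCat.of (R ⊗[A] C) ⟶ CommRingCat.of (R' ⊗[A] C) :=
    CommRingCat.ofHom (Algebra.TensorProduct.map φ (AlgHom.id A C)).toRingHom
  have hb := CommRingCat.isPushout_tensorProduct A R C
  have ho := CommRingCat.isPushout_tensorProduct A R' C
  have hsq : IsPushout g inl inl' m := by
    refine IsPushout.of_left ?_ ?_ hb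
    · convert ho using 1
      · ext a; exact φ.commutes a
      · ext c
        show Algebra.TensorProduct.map φ (AlgHom.id A C) (1 ⊗ₜ c) = 1 ⊗ₜ c
        simp
    · ext x
      show φ x ⊗ₜ[A] (1 : C) = Algebra.TensorProduct.map φ (AlgHom.id A C) (x ⊗ₜ 1)
      simp
  have := Scheme.image_preimage_eq_of_isPullback (isPullback_SpecMap_of_isPushout _ _ _ _ hsq).flip
    (basicOpen f : Set (PrimeSpectrum (R ⊗[A] C)))
  refine Eq.trans ?_ this
  show _ '' _ = _ '' _
  congr 1

theorem exists_coeff {d : ℕ} (b : Fin d → C) (hb : Submodule.span A (Set.range b) = ⊤)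
    (g : R ⊗[A] C) : ∃ a : Fin d → R, g = ∑ i, a i ⊗ₜ b i := by
  induction g using TensorProduct.induction_on with
  | zero => exact ⟨0, by simp⟩
  | tmul x c =>
    obtain ⟨l, hl⟩ := (Submodule.mem_span_range_iff_exists_fun A).mp (hb ▸ Submodule.mem_top : c ∈ _)
    exact ⟨fun i => l i • x, by rw [← hl, TensorProduct.tmul_sum]; simp [TensorProduct.smul_tmul]⟩
  | add x y hx hy =>
    obtain ⟨a, rfl⟩ := hx
    obtain ⟨a', rfl⟩ := hy
    exact ⟨a + a', by simp [TensorProduct.add_tmul, Finset.sum_add_distrib]⟩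

/-- The test element. -/
noncomputable def testElem {d : ℕ} (b : Fin d → C) (r : C) : MvPolynomial (Fin d) A ⊗[A] C :=
  (1 ⊗ₜ r) * ∑ i, MvPolynomial.X i ⊗ₜ b i

theorem map_testElem {d : ℕ} (b : Fin d → C) (r : C) (a : Fin d → R) :
    Algebra.TensorProduct.map (MvPolynomial.aeval a) (AlgHom.id A C) (testElem b r) =
      (1 ⊗ₜ r) * ∑ i, a i ⊗ₜ b i := by
  simp [testElem, map_sum]

/-- The basic constructible set of the criterion. -/
noncomputable def testSet {d : ℕ} (b : Fin d → C) (r : C) : Set (PrimeSpectrum (MvPolynomial (Fin d) A)) :=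
  imgD (MvPolynomial (Fin d) A) (testElem b r)

theorem isOpen_image_of_subset {d : ℕ} (b : Fin d → C) (hb : Submodule.span A (Set.range b) = ⊤) (r : C)
    (h : ∀ a : Fin d → R, IsOpen (comap (MvPolynomial.aeval (R := A) a).toRingHom ⁻¹' testSet b r))
    {U : Set (PrimeSpectrum (R ⊗[A] C))} (hU : IsOpen U)
    (hUr : U ⊆ (basicOpen ((1 : R) ⊗ₜ[A] r) : Set _)) :
    IsOpen (comap (Algebra.TensorProduct.includeLeftRingHom : R →+* R ⊗[A] C) '' U) := by
  refine isOpen_iff_forall_mem_open.mpr ?_
  rintro _ ⟨x, hx, rfl⟩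
  obtain ⟨_, ⟨g, rfl⟩, hxg, hgU⟩ :=
    PrimeSpectrum.isTopologicalBasis_basic_opens.exists_subset_of_mem_open hx hU
  obtain ⟨a, rfl⟩ := exists_coeff b hb g
  refine ⟨comap (MvPolynomial.aeval (R := A) a).toRingHom ⁻¹' testSet b r, ?_, h a, ?_⟩
  · rw [testSet, ← imgD_map, map_testElem]
    refine Set.image_mono (subset_trans ?_ hgU)
    rw [PrimeSpectrum.basicOpen_mul]
    exact Set.inter_subset_right
  · rw [testSet, ← imgD_map, map_testElem]
    refine ⟨x, ?_, rfl⟩
    rw [PrimeSpectrum.basicOpen_mul]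
    exact ⟨hUr hx, hxg⟩

end ring

section scheme

variable {A C : Type u} [CommRing A] [CommRing C] [Algebra A C]

/-- The structure map. -/
noncomputable abbrev str (A C : Type u) [CommRing A] [CommRing C] [Algebra A C] :
    Spec (CommRingCat.of C) ⟶ Spec (CommRingCat.of A) :=
  Spec.map (CommRingCat.ofHom (algebraMap A C))

variable {U : Scheme.{u}} (ι : U ⟶ Spec (CommRingCat.of C)) [IsOpenImmersion ι]
  {r : C} (hι : Set.range ι = (basicOpen r : Set (PrimeSpectrum C)))
include hι

theorem exists_imm {R : Type u} [CommRing R] [Algebra A R] {W : Scheme.{u}} {p : W ⟶ U}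
    {s : W ⟶ Spec (CommRingCat.of R)} (h : IsPullback p s (ι ≫ str A C) (str A R)) :
    ∃ q : W ⟶ Spec (CommRingCat.of (R ⊗[A] C)), IsOpenImmersion q ∧
      q ≫ Spec.map (CommRingCat.ofHom Algebra.TensorProduct.includeLeftRingHom) = s ∧
      Set.range q = (basicOpen ((1 : R) ⊗ₜ[A] r) : Set (PrimeSpectrum (R ⊗[A] C))) := by
  let iR : Spec (CommRingCat.of (R ⊗[A] C)) ⟶ Spec (CommRingCat.of C) :=
    Spec.map (CommRingCat.ofHom (Algebra.TensorProduct.includeRight (R := A) (A := R) (B := C)).toRingHom)
  have hsq : IsPullback iR (Spec.map (CommRingCat.ofHom Algebra.TensorProduct.includeLeftRingHom))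
      (str A C) (str A R) :=
    (isPullback_SpecMap_of_isPushout _ _ _ _ (CommRingCat.isPushout_tensorProduct A R C)).flip
  let q := hsq.lift (p ≫ ι) s (by rw [Category.assoc, h.w])
  have h2 : IsPullback p q ι iR := by
    refine IsPullback.of_bot ?_ (hsq.lift_fst _ _ _).symm hsq
    rw [hsq.lift_snd]; exact h
  refine ⟨q, MorphismProperty.of_isPullback h2 inferInstance, hsq.lift_snd _ _ _, ?_⟩
  have := Scheme.image_preimage_eq_of_isPullback h2 Set.univ
  rw [Set.preimage_univ, Set.image_univ, Set.image_univ] at this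
  refine this.trans ?_
  rw [hι]
  rfl

theorem universallyOpen_snd_iff {d : ℕ} (b : Fin d → C) (hb : Submodule.span A (Set.range b) = ⊤)
    {T Tx : Scheme.{u}} (t : T ⟶ Spec (CommRingCat.of A)) {sx : Tx ⟶ T}
    {fx : Tx ⟶ Spec (CommRingCat.of (MvPolynomial (Fin d) A))}
    (hT : IsPullback fx sx (str A (MvPolynomial (Fin d) A)) t) :
    UniversallyOpen (pullback.snd (ι ≫ str A C) t) ↔
      IsOpen (fx ⁻¹' testSet b r) := by
  let P := MvPolynomial (Fin d) A
  constructor
  · intro huo
    let W := pullback (ι ≫ str A C) (str A P)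
    obtain ⟨q, hq, hqs, hqr⟩ := exists_imm ι hι (IsPullback.of_hasPullback (ι ≫ str A C) (str A P))
    let O : Set W := q ⁻¹' (basicOpen (testElem (A := A) b r) : Set (PrimeSpectrum (MvPolynomial (Fin d) A ⊗[A] C)))
    have hO : pullback.snd (ι ≫ str A C) (str A P) '' O = testSet b r := by
      rw [← hqs]
      show _ = comap _ '' _
      rw [Scheme.Hom.comp_base, TopCat.coe_comp, Set.image_comp]
      refine congrArg (Set.image _) ?_
      refine Set.image_preimage_eq_of_subset ?_
      rw [hqr, testElem, PrimeSpectrum.basicOpen_mul]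
      exact Set.inter_subset_left
    let Wx := pullback (pullback.snd (ι ≫ str A C) t) sx
    have hbig : IsPullback (pullback.fst (pullback.snd (ι ≫ str A C) t) sx ≫ pullback.fst _ _)
        (pullback.snd _ _) (ι ≫ str A C) (fx ≫ str A P) := by
      rw [hT.w]
      exact (IsPullback.of_hasPullback _ _).paste_horiz (IsPullback.of_hasPullback _ _)
    let l : Wx ⟶ W := pullback.lift (pullback.fst _ _ ≫ pullback.fst _ _) (pullback.snd _ _ ≫ fx)
      (by rw [hbig.w, Category.assoc])
    have hl : IsPullback l (pullback.snd _ _) (pullback.snd (ι ≫ str A C) (str A P)) fx := by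
      refine IsPullback.of_right ?_ (pullback.lift_snd _ _ _) (IsPullback.of_hasPullback _ _)
      rw [pullback.lift_fst]; exact hbig
    have hopen : IsOpenMap (pullback.snd (pullback.snd (ι ≫ str A C) t) sx) :=
      UniversallyOpen.universally_isOpenMap (f := pullback.snd (ι ≫ str A C) t) _ _ _
        (IsPullback.of_hasPullback _ _).flip
    rw [← hO, ← Scheme.image_preimage_eq_of_isPullback hl O]
    exact hopen _ (((basicOpen (testElem (A := A) b r)).isOpen.preimage q.continuous).preimage l.continuous)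
  · intro hopen
    rw [universallyOpen_iff]
    intro W' T' i₁ i₂ f' hf'
    show topologically @IsOpenMap f'
    rw [IsZariskiLocalAtTarget.iff_of_openCover (P := topologically @IsOpenMap) T'.affineCover]
    intro j
    dsimp only [Scheme.Cover.pullbackHom]
    suffices key : ∀ (R : CommRingCat.{u}) (g : Spec R ⟶ T'), IsOpenMap (pullback.snd f' g) from
      key _ (T'.affineCover.f j)
    intro R g
    obtain ⟨φ, hφ⟩ := Spec.map_surjective ((g ≫ i₂) ≫ t)
    let tR := g ≫ i₂
    algebraize [φ.hom]
    have hp := ((IsPullback.of_hasPullback f' g).paste_horiz hf'.flip).paste_horiz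
      (IsPullback.of_hasPullback (ι ≫ str A C) t)
    rw [← hφ] at hp
    obtain ⟨q, hq, hqs, hqr⟩ := exists_imm ι hι hp
    intro V hV
    rw [← hqs, Scheme.Hom.comp_base, TopCat.coe_comp, Set.image_comp]
    refine isOpen_image_of_subset b hb r (fun a => ?_) (q.isOpenEmbedding.isOpenMap V hV)
      (hqr ▸ Set.image_subset_range _ _)
    have w : Spec.map (CommRingCat.ofHom (MvPolynomial.aeval (R := A) a).toRingHom) ≫ str A P = tR ≫ t := by
      rw [show tR ≫ t = Spec.map φ from hφ.symm, str, ← Spec.map_comp]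
      congr 1
      ext x
      exact (MvPolynomial.aeval (R := A) a).commutes x
    have e : hT.lift _ tR w ≫ fx = _ := hT.lift_fst _ _ w
    have h2 : IsOpen ((hT.lift _ tR w ≫ fx) ⁻¹' testSet b r) := hopen.preimage (hT.lift _ tR w).continuous
    rw [e] at h2
    exact h2

end scheme

end Groth.Agent.UOpenDesc
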